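import Mathlib
import Cfsg.Agent.H440.Bs.Rec_m3
import Cfsg.Agent.H105.SzU2_m3
import Cfsg.Agent.FastGrp
import Cfsg.Agent.Prune
set_option linter.all false

section
prune_inst 0x7f00000000000000000000000000000000000000000000000000000000000000000000000000000000000000000000000000000000000000000000000000000000000000000000000000000000000000003fffffffffffffffffffffffffffbeffbdffffffff

-- part: H141/Ux/Defs
section
set_option linter.all false
open scoped Cfsg.Agent.FastGrp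

/-!
# UX (S5716, unbounded rank): definitions (helper141)

`V` is a space of large dimension over a finite field `F`, `Φ` a form, `G ≤ GL(V)` the group.

* `Kl Φ G N t` : `G` is `Sp`, `SU` or `Ω`; `N` is the number of values of the norm (`1`, `r`, `|F|`), `t` the field parameter
  (`|F|`, `r`, `|F|`);
* `Pp F e m` : `m > 2 e + 1` divides `q ^ e - 1` and is prime to `p ^ j - 1` for all `j < e f`, `q = p ^ f`;
* `StE`, `StA`, `StL` : the power `z` of `y` is irreducible on the block `E` (resp. on `A` and `A'`, resp. on `E`) and trivial on the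
  complement;
* `GPF`, `GPL` : two blocks and `x` are in general position;
* `Ud`, `par` : parity of the dimensions of the blocks.
-/

set_option autoImplicit false

namespace Cfsg.Agent.H141.Ux

open Module Cfsg.Agent.H847.Bs Cfsg.Agent.LieClassical.OrthCore
open Cfsg.Agent.H440.Bs (perp mem_perp)

section

variable {F V : Type*} [Field F] [AddCommGroup V] [Module F V]

/-- scalar maps -/
def Sca (x : V ≃ₗ[F] V) : Prop := ∃ c : F, ∀ v, x v = c • v

/-- the groups with a form -/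
def Kl (Φ : Frm F V) (G : Subgroup (V ≃ₗ[F] V)) (N t : ℕ) : Prop :=
  (IsSp Φ ∧ G = Φ.Iso ∧ N = 1 ∧ t = Nat.card F) ∨
  (∃ r, IsHerm r Φ ∧ G = Φ.Iso ⊓ slV F V ∧ N = r ∧ t = r) ∨
  (∃ Q : QuadraticForm F V, (frmQ Q).Nd ∧ Φ = frmQ Q ∧ G = E Q ∧ N = Nat.card F ∧ t = Nat.card F)

/-- parity of the dimension `e` of a nondegenerate block with irreducible isometries: even for `Sp` and `Ω`, odd for `SU` -/
def ParE (Φ : Frm F V) (e : ℕ) : Prop :=
  ((IsSp Φ ∨ ∃ Q : QuadraticForm F V, Φ = frmQ Q) ∧ Even e) ∨ ((∃ r, IsHerm r Φ) ∧ Odd e)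

/-- parity of the dimension of a totally isotropic block, which is not isomorphic to its dual: odd for `Sp` and `Ω`, even for
`SU` -/
def ParA (Φ : Frm F V) (e : ℕ) : Prop :=
  ((IsSp Φ ∨ ∃ Q : QuadraticForm F V, Φ = frmQ Q) ∧ Odd e) ∨ ((∃ r, IsHerm r Φ) ∧ Even e)

/-- `m > 2 e + 1` divides `q ^ e - 1` and all its prime divisors `r` satisfy `ord_r(p) = e f`, `q = p ^ f` -/
def Pp (F : Type*) [Field F] (e m : ℕ) : Prop :=
  2 * e + 1 < m ∧ m ∣ Nat.card F ^ e - 1 ∧ ∀ r : ℕ, r.Prime → r ∣ m → ∀ f : ℕ, Nat.card F = ringChar F ^ f →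
    orderOf ((ringChar F : ℕ) : ZMod r) = e * f

/-- all prime divisors `r` of `m ≠ 1` satisfy `ord_r(q) = e` -/
def Pq (F : Type*) [Field F] (e m : ℕ) : Prop :=
  m ≠ 1 ∧ ∀ r : ℕ, r.Prime → r ∣ m → orderOf ((Nat.card F : ℕ) : ZMod r) = e

/-- nondegenerate irreducible block `E` of `y`, with a power `z` of `y` which is irreducible on `E` and trivial on `E^⊥` -/
structure StE (Φ : Frm F V) (e : ℕ) (y : V ≃ₗ[F] V) (E : Submodule F V) (z : V ≃ₗ[F] V) : Prop where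
  mem : z ∈ Subgroup.zpowers y
  nd : Φ.NdOn E
  dim : finrank F E = e
  inv : Inv y E
  fix : ∀ v ∈ perp Φ E, z v = v
  irr : ∀ W ≤ E, Inv z W → W = ⊥ ∨ W = E
  fpf : ∀ v ∈ E, z v = v → v = 0
  ord : Pp F e (orderOf z)

/-- block `A ⊕ A'` of `y`, `A` and `A'` totally isotropic, irreducible and not isomorphic under the power `z` of `y`, which is
trivial on `(A ⊕ A')^⊥` -/
structure StA (Φ : Frm F V) (e : ℕ) (y : V ≃ₗ[F] V) (A A' : Submodule F V) (z : V ≃ₗ[F] V) : Prop where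
  mem : z ∈ Subgroup.zpowers y
  ti : Φ.TI A
  ti' : Φ.TI A'
  dim : finrank F A = e
  dim' : finrank F A' = e
  disj : Disjoint A A'
  nd : Φ.NdOn (A ⊔ A')
  inv : Inv y A
  inv' : Inv y A'
  fix : ∀ v ∈ perp Φ (A ⊔ A'), z v = v
  irr : ∀ W ≤ A, Inv z W → W = ⊥ ∨ W = A
  irr' : ∀ W ≤ A', Inv z W → W = ⊥ ∨ W = A'
  fpf : ∀ v ∈ A ⊔ A', z v = v → v = 0
  hom : ∀ φ : A →ₗ[F] A', (∀ (a : A) (h : z a ∈ A), ((φ ⟨z a, h⟩ : A') : V) = z (φ a)) → φ = 0
  ord : Pq F e (orderOf z)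

/-- linear case: irreducible block `E` of `y` with the invariant complement `C` -/
structure StL (e : ℕ) (y : V ≃ₗ[F] V) (E C : Submodule F V) (z : V ≃ₗ[F] V) : Prop where
  mem : z ∈ Subgroup.zpowers y
  compl : IsCompl E C
  dim : finrank F E = e
  inv : Inv y E
  inv' : Inv y C
  fix : ∀ v ∈ C, z v = v
  irr : ∀ W ≤ E, Inv z W → W = ⊥ ∨ W = E
  fpf : ∀ v ∈ E, z v = v → v = 0
  ord : Pq F e (orderOf z)

/-- general position -/
structure GPF (Φ : Frm F V) (x : V ≃ₗ[F] V) (E A A' : Submodule F V) : Prop where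
  disj : Disjoint E ((A ⊔ A').map (x : V →ₗ[F] V))
  nd : Φ.NdOn (E ⊔ (A ⊔ A').map (x : V →ₗ[F] V))
  a : ∃ a ∈ A, ∃ b ∈ E, Φ.B (x a) b ≠ 0
  a' : ∃ a ∈ A', ∃ b ∈ E, Φ.B (x a) b ≠ 0
  e : ∃ a ∈ E, ∃ b ∈ E, Φ.B (x a) b ≠ 0

/-- general position, linear case: `V = E ⊕ E' ⊕ C₀` -/
structure GPL (x : V ≃ₗ[F] V) (E E' C₀ : Submodule F V) : Prop where
  disj : Disjoint E (E'.map (x : V →ₗ[F] V))
  compl : IsCompl (E ⊔ E'.map (x : V →ₗ[F] V)) ((E' ⊔ C₀) ⊓ (E ⊔ C₀).map (x : V →ₗ[F] V))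
  a : ∃ a ∈ E', x a ∉ E' ⊔ C₀
  b : ∃ b ∈ E, b ∉ (E ⊔ C₀).map (x : V →ₗ[F] V)
  e : ∃ a ∈ E, x a ∉ E' ⊔ C₀

/-- the number of `y ∈ G` with `P y` -/
noncomputable def cnt (G : Subgroup (V ≃ₗ[F] V)) (P : (V ≃ₗ[F] V) → Prop) : ℕ :=
  Nat.card {y : V ≃ₗ[F] V // y ∈ G ∧ P y}

/-- the short root elements of the symplectic group (characteristic two): `v ↦ v + B(v,s) t + B(v,t) s` -/
def sr (Φ : Frm F V) (s t : V) : V →ₗ[F] V where
  toFun v := v + Φ.B v s • t + Φ.B v t • s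
  map_add' v w := by
    rw [Φ.add_left, Φ.add_left, add_smul, add_smul]
    abel
  map_smul' a v := by
    rw [Φ.smul_left, Φ.smul_left, mul_smul, mul_smul, RingHom.id_apply, smul_add, smul_add]

/-- `H` contains the short root elements of the quadratic form `q` (with polar form `B`) on `W` -/
def HasS (Φ : Frm F V) (q : V → F) (H : Subgroup (V ≃ₗ[F] V)) (W : Submodule F V) : Prop :=
  (∀ u ∈ W, ∀ w ∈ W, q (u + w) = q u + q w + Φ.B u w) ∧ (∀ (a : F), ∀ w ∈ W, q (a • w) = a ^ 2 * q w) ∧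
  ∀ s ∈ W, ∀ t ∈ W, q s = 0 → q t = 0 → Φ.B s t = 0 → ∃ g ∈ H, (g : V →ₗ[F] V) = sr Φ s t

end

end Cfsg.Agent.H141.Ux
end

-- part: H50/Ux/Stmts
section
set_option linter.all false

/-!
# UT2 (UX, S5716): the exact statements of the sub-tasks (helper50)

`Φ` is a form on `V`, `ψ : D →ₗ V` an injective map (a frame).

* `pb Φ ψ` : the pull back `(B, q)` of the form; `IsoP P m` : `m` preserves `P = (B, q)`;
* `PI F X e` : the irreducible automorphisms of `X` of order divisible by some `k` with `Pp F e k`;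
* `Wc c Φ G ψ` : (number of frames isometric to `ψ`) * (number of `g ∈ G` with `g ψ = ψ'`) `≤ c |G|`;
* `Gn Φ e y E` : `E` is the block of `y`.

A task `Yxx` is done when a theorem `… : H50.Ux.Yxx` is proved.
-/

set_option autoImplicit false

namespace Cfsg.Agent.H50.Ux

open Module Cfsg.Agent.H847.Bs Cfsg.Agent.LieClassical.OrthCore
open Cfsg.Agent.H440.Bs (perp mem_perp)
open Cfsg.Agent.H141.Ux (Kl ParE Pp StE)

section

variable {F V : Type*} [Field F] [AddCommGroup V] [Module F V]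

/-- pull back of the form -/
def pb {D : Type*} [AddCommGroup D] [Module F D] (Φ : Frm F V) (ψ : D →ₗ[F] V) : (D → D → F) × (D → F) :=
  (fun x y => Φ.B (ψ x) (ψ y), fun x => Φ.q (ψ x))

/-- `m` preserves `P` -/
def IsoP {D : Type*} [AddCommGroup D] [Module F D] (P : (D → D → F) × (D → F)) (m : D ≃ₗ[F] D) : Prop :=
  (∀ x y, P.1 (m x) (m y) = P.1 x y) ∧ ∀ x, P.2 (m x) = P.2 x

/-- `P` is the pull back of `Φ` under an injective map -/
def Emb {D : Type*} [AddCommGroup D] [Module F D] (Φ : Frm F V) (P : (D → D → F) × (D → F)) : Prop :=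
  ∃ ψ : D →ₗ[F] V, Function.Injective ψ ∧ pb Φ ψ = P

/-- (number of frames isometric to `ψ`) * (number of `g ∈ G` with `g ψ = ψ'`) `≤ c |G|` -/
def Wc {D : Type*} [AddCommGroup D] [Module F D] (c : ℕ) (Φ : Frm F V) (G : Subgroup (V ≃ₗ[F] V)) (ψ : D →ₗ[F] V) :
    Prop :=
  ∀ ψ' : D →ₗ[F] V,
    Nat.card {χ : D →ₗ[F] V // Function.Injective χ ∧ pb Φ χ = pb Φ ψ} *
      Nat.card {g : V ≃ₗ[F] V // g ∈ G ∧ ∀ x, g (ψ x) = ψ' x} ≤ c * Nat.card G

/-- `E` is a nondegenerate irreducible block of `y` of dimension `e`, the order of `y` on `E` has a large `p`-primitive part, and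
no irreducible subspace of `E^⊥` has dimension divisible by `e` -/
structure Gn (Φ : Frm F V) (e : ℕ) (y : V ≃ₗ[F] V) (E : Submodule F V) : Prop where
  nd : Φ.NdOn E
  dim : finrank F E = e
  irr : Irr y E
  pp : ∃ k, Pp F e k ∧ ∀ j : ℕ, (∀ a ∈ E, (y ^ j) a = a) → k ∣ j
  no : ∀ B ≤ perp Φ E, Irr y B → ¬ e ∣ finrank F B

/-- the three kinds of forms -/
def Fo (Φ : Frm F V) : Prop := IsSp Φ ∨ (∃ r, IsHerm r Φ) ∨ ∃ Q : QuadraticForm F V, (frmQ Q).Nd ∧ Φ = frmQ Q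

end

/-- the irreducible automorphisms of order divisible by some `k` with `Pp F e k` -/
def PI (F X : Type*) [Field F] [AddCommGroup X] [Module F X] (e : ℕ) : Set (X ≃ₗ[F] X) :=
  {m | Irr m ⊤ ∧ ∃ k, Pp F e k ∧ k ∣ orderOf m}

/-! ### Ye: the power `z` -/

/-- Ye: primary decomposition (`L24`) -/
def Ye : Prop := ∀ (F V : Type) [Field F] [Finite F] [AddCommGroup V] [Module F V] [Module.Finite F V] (Φ : Frm F V) (e : ℕ),
  Φ.Nd → 2 ≤ e → ∀ y ∈ Φ.Iso, ∀ E, Gn Φ e y E → ∃ z, StE Φ e y E z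

/-! ### Ya: existence of the blocks, lower bounds -/

/-- Ya0: the elements with a large primitive part in a torus of order `c` (`c = q^(e/2) + 1` or `c = r^e + 1`) -/
def Ya0 : Prop := ∀ (L : Type) [Field L] [Finite L] (p f e c : ℕ), p.Prime → 1 ≤ f → 3 ≤ e → Nat.card L = (p ^ f) ^ e →
  64 * (e * f) * (2 * e + 2) ^ 2 * e ≤ p ^ (e * f).totient → c ∣ (p ^ f) ^ e - 1 →
  (∀ r : ℕ, r.Prime → orderOf ((p : ℕ) : ZMod r) = e * f → ¬ r ∣ ((p ^ f) ^ e - 1) / c) →
  3 * c ≤ 4 * Nat.card {t : Lˣ // t ^ c = 1 ∧ ∃ k, 2 * e + 1 < k ∧ k ∣ (p ^ f) ^ e - 1 ∧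
    (∀ r : ℕ, r.Prime → r ∣ k → orderOf ((p : ℕ) : ZMod r) = e * f) ∧ k ∣ orderOf t}

/-- conclusion of Ya1, Ya2, Ya3 -/
def YaC {F V : Type} [Field F] [AddCommGroup V] [Module F V] (Φ : Frm F V) (e : ℕ) : Prop :=
  ∃ E₀ : Submodule F V, Φ.NdOn E₀ ∧ finrank F E₀ = e ∧
    Nat.card (Φ.on E₀).Iso ≤ 4 * e * Nat.card {m : E₀ ≃ₗ[F] E₀ // m ∈ (Φ.on E₀).Iso ∧ m ∈ PI F E₀ e}

/-- Ya1: symplectic forms (from `Ya0`) -/
def Ya1 : Prop := ∀ (F V : Type) [Field F] [Finite F] [AddCommGroup V] [Module F V] [Module.Finite F V] (Φ : Frm F V)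
  (p f e : ℕ), IsSp Φ → Even e → p.Prime → Nat.card F = p ^ f → 20 ≤ e → 2 * e + 6 ≤ finrank F V →
  64 * (e * f) * (2 * e + 2) ^ 2 * e ≤ p ^ (e * f).totient → YaC Φ e

/-- Ya2: hermitian forms (from `Ya0`) -/
def Ya2 : Prop := ∀ (F V : Type) [Field F] [Finite F] [AddCommGroup V] [Module F V] [Module.Finite F V] (Φ : Frm F V)
  (r p f e : ℕ), IsHerm r Φ → Odd e → p.Prime → Nat.card F = p ^ f → 20 ≤ e → 2 * e + 6 ≤ finrank F V →
  64 * (e * f) * (2 * e + 2) ^ 2 * e ≤ p ^ (e * f).totient → YaC Φ e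

/-- Ya3: quadratic forms (from `Ya0`); the dimension of `V` may be odd (odd characteristic) -/
def Ya3 : Prop := ∀ (F V : Type) [Field F] [Finite F] [AddCommGroup V] [Module F V] [Module.Finite F V]
  (Q : QuadraticForm F V) (p f e : ℕ), (frmQ Q).Nd → Even e → p.Prime → Nat.card F = p ^ f → 20 ≤ e →
  2 * e + 6 ≤ finrank F V → 64 * (e * f) * (2 * e + 2) ^ 2 * e ≤ p ^ (e * f).totient → YaC (frmQ Q) e

/-! ### Yb: class-free upper bound for the irreducible isometries -/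

/-- Yb: from `Yb1`, `L25` (number of irreducible `m` with `orderOf m ∣ w + 1`) and `L02` (for `P = 0`) -/
def Yb : Prop := ∀ (F V : Type) [Field F] [Finite F] [AddCommGroup V] [Module F V] [Module.Finite F V] (Φ : Frm F V), Fo Φ →
  ∀ k, 2 ≤ k →
  k * Nat.card {x : (((Fin k → F) → (Fin k → F) → F) × ((Fin k → F) → F)) × ((Fin k → F) ≃ₗ[F] (Fin k → F)) //
      Emb Φ x.1 ∧ IsoP x.1 x.2 ∧ Irr x.2 ⊤} ≤ 8 * Nat.card ((Fin k → F) ≃ₗ[F] (Fin k → F))

/-! ### Yc: Witt's theorem with constants -/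

/-- Yc1: symplectic groups (`H91.Symp.witt_family`) -/
def Yc1 : Prop := ∀ (F V D : Type) [Field F] [Finite F] [AddCommGroup V] [Module F V] [Module.Finite F V] [AddCommGroup D]
  [Module F D] [Module.Finite F D] (Φ : Frm F V), IsSp Φ → ∀ ψ : D →ₗ[F] V, Function.Injective ψ → Wc 1 Φ Φ.Iso ψ

/-- Yc2: special unitary groups (Witt for the unitary group, and a quasi-reflection along a nonisotropic vector of
`(range ψ)^⊥` to correct the determinant) -/
def Yc2 : Prop := ∀ (F V D : Type) [Field F] [Finite F] [AddCommGroup V] [Module F V] [Module.Finite F V] [AddCommGroup D]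
  [Module F D] [Module.Finite F D] (r : ℕ) (Φ : Frm F V), IsHerm r Φ → ∀ ψ : D →ₗ[F] V, Function.Injective ψ →
  ¬ perp Φ (LinearMap.range ψ) ≤ LinearMap.range ψ → Wc 1 Φ (Φ.Iso ⊓ slV F V) ψ

/-- Yc3: `Ω` (Witt for the orthogonal group, from Yc4) -/
def Yc3 : Prop := ∀ (F V D : Type) [Field F] [Finite F] [AddCommGroup V] [Module F V] [Module.Finite F V] [AddCommGroup D]
  [Module F D] [Module.Finite F D] (Q : QuadraticForm F V), (frmQ Q).Nd → 10 ≤ finrank F V → ∀ ψ : D →ₗ[F] V,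
  Function.Injective ψ → Wc 4 (frmQ Q) (E Q) ψ

/-- Yc4: the index of `Ω` in the orthogonal group -/
def Yc4 : Prop := ∀ (F V : Type) [Field F] [Finite F] [AddCommGroup V] [Module F V] [Module.Finite F V]
  (Q : QuadraticForm F V), (frmQ Q).Nd → 10 ≤ finrank F V → Nat.card (O Q) ≤ 4 * Nat.card (E Q)

end Cfsg.Agent.H50.Ux
end

-- part: H450/Ux/YcFour
section
set_option linter.all false
open scoped Cfsg.Agent.FastGrp

/-!
# UX (S5716), UT2: `Yc4`: the index of `Ω` in the orthogonal group (helper450 for helper50)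
-/

set_option autoImplicit false
set_option linter.unusedSectionVars false

namespace Cfsg.Agent.H450.Ux

open Module QuadraticMap Cfsg.Agent.LieClassical.OrthCore Cfsg.Agent.LieClassical.OrthTrans
open Cfsg.Agent.H847.Ux

variable {F V : Type*} [Field F] [AddCommGroup V] [Module F V] {Q : QuadraticForm F V}

/-- two reflections with the same norm are congruent modulo `E Q` -/
theorem refl_cong [Finite F] [FiniteDimensional F V] (hQ : Nondeg Q) (h5 : 5 ≤ finrank F V) {u v : V} (hu : Q u ≠ 0)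
    (hv : Q v ≠ 0) (huv : Q u = Q v) : ∃ e ∈ E Q, refl Q v hv = e * refl Q u hu := by
  have hu0 : u ≠ 0 := by
    rintro rfl
    exact hu (map_zero Q)
  have hv0 : v ≠ 0 := by
    rintro rfl
    exact hv (map_zero Q)
  obtain ⟨g, hg, hgu⟩ := witt_E hQ (k := 1) (u := fun _ => u) (u' := fun _ => v)
    (LinearIndependent.of_subsingleton 0 hu0) (LinearIndependent.of_subsingleton 0 hv0) (fun _ => huv)
    (fun _ _ => by rw [polar_self', polar_self', huv]) (by omega) h5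
  have hgO : g ∈ O Q := E_le_O hg
  have h1 : g u = v := hgu 0
  have h2 : Q (g u) ≠ 0 := by rw [h1]; exact hv
  have h3 := refl_conj hgO hu h2
  have h4 : refl Q v hv = g * refl Q u hu * g⁻¹ := by
    rw [h3]
    congr 1
    exact h1.symm
  refine ⟨g * (refl Q u hu * g⁻¹ * (refl Q u hu)⁻¹), mul_mem hg (conj_mem_E (refl_mem_O hu) (inv_mem hg)), ?_⟩
  rw [h4]
  group

/-- square classes -/
theorem exists_classes (F : Type*) [Field F] [Finite F] :
    ∃ ε : F, ε ≠ 0 ∧ ∀ a : F, a ≠ 0 → ∃ c : F, c ≠ 0 ∧ (a = c * c * 1 ∨ a = c * c * ε) := by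
  classical
  have := Fintype.ofFinite F
  by_cases h : ∃ ε : F, ¬ IsSquare ε
  · obtain ⟨ε, hε⟩ := h
    have hε0 : ε ≠ 0 := by
      rintro rfl
      exact hε (IsSquare.zero)
    refine ⟨ε, hε0, fun a ha => ?_⟩
    by_cases hs : IsSquare a
    · obtain ⟨c, hc⟩ := hs
      have hc0 : c ≠ 0 := by
        rintro rfl
        exact ha (by rw [hc, mul_zero])
      exact ⟨c, hc0, Or.inl (by rw [mul_one, hc])⟩
    · have h1 : quadraticChar F a = -1 := quadraticChar_neg_one_iff_not_isSquare.2 hs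
      have h2 : quadraticChar F ε = -1 := quadraticChar_neg_one_iff_not_isSquare.2 hε
      have h3 : quadraticChar F (a * ε) = 1 := by rw [map_mul, h1, h2]; rfl
      have h4 : IsSquare (a * ε) := (quadraticChar_one_iff_isSquare (mul_ne_zero ha hε0)).1 h3
      obtain ⟨c, hc⟩ := h4
      have hc0 : c ≠ 0 := by
        rintro rfl
        exact mul_ne_zero ha hε0 (by rw [hc, mul_zero])
      refine ⟨c / ε, div_ne_zero hc0 hε0, Or.inr ?_⟩
      field_simp
      rw [pow_two, ← hc]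
  · push Not at h
    refine ⟨1, one_ne_zero, fun a ha => ?_⟩
    obtain ⟨c, hc⟩ := h a
    have hc0 : c ≠ 0 := by
      rintro rfl
      exact ha (by rw [hc, mul_zero])
    exact ⟨c, hc0, Or.inl (by rw [mul_one, hc])⟩

theorem refl_cong' [Finite F] [FiniteDimensional F V] (hQ : Nondeg Q) (h5 : 5 ≤ finrank F V) {u v : V} (hu : Q u ≠ 0)
    (hv : Q v ≠ 0) {c : F} (hc : c ≠ 0) (huv : Q v = c * c * Q u) : ∃ e ∈ E Q, refl Q v hv = e * refl Q u hu := by
  have h1 : Q (c • u) = Q v := by rw [QuadraticMap.map_smul, smul_eq_mul, huv]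
  have h2 : Q (c • u) ≠ 0 := by rw [h1]; exact hv
  obtain ⟨e, he, h3⟩ := refl_cong hQ h5 h2 hv h1
  exact ⟨e, he, by rw [h3, refl_smul hu hc h2]⟩

/-- **`|O(Q)| ≤ 4 |Ω(Q)|`** -/
theorem card_O_le [Finite F] [FiniteDimensional F V] (hQ : Nondeg Q) (h5 : 5 ≤ finrank F V) :
    Nat.card (O Q) ≤ 4 * Nat.card (E Q) := by
  have hfV : Finite V := Module.finite_of_finite F
  have hfG : Finite (V ≃ₗ[F] V) := Finite.of_injective (fun g : V ≃ₗ[F] V => (g : V → V)) DFunLike.coe_injective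
  obtain ⟨x, y, hxy, -⟩ := H847.Ux.exists_hyp_perp hQ (k := 0) ![] (by omega)
  have hval : ∀ c : F, ∃ u, Q u = c := by
    intro c
    refine ⟨x + c • y, ?_⟩
    rw [Q_add, QuadraticMap.map_smul, polar_smul_right, hxy.left, hxy.right, hxy.pair]
    simp
  obtain ⟨ε, hε, hcl⟩ := exists_classes F
  obtain ⟨u, hu'⟩ := hval 1
  obtain ⟨w, hw'⟩ := hval ε
  have hu : Q u ≠ 0 := by rw [hu']; exact one_ne_zero
  have hw : Q w ≠ 0 := by rw [hw']; exact hε
  obtain ⟨r, hr⟩ : ∃ r, r = refl Q u hu := ⟨_, rfl⟩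
  obtain ⟨s, hs⟩ : ∃ s, s = refl Q w hw := ⟨_, rfl⟩
  have hrO : r ∈ O Q := by rw [hr]; exact refl_mem_O hu
  have hsO : s ∈ O Q := by rw [hs]; exact refl_mem_O hw
  have hrr : r * r = 1 := by rw [hr]; exact refl_mul_self hu
  have hss : s * s = 1 := by rw [hs]; exact refl_mul_self hw
  -- every reflection is congruent to `r` or `s`
  have hrefl : ∀ v (hv : Q v ≠ 0), ∃ e ∈ E Q, refl Q v hv = e * r ∨ refl Q v hv = e * s := by
    intro v hv
    obtain ⟨c, hc, h1 | h1⟩ := hcl (Q v) hv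
    · obtain ⟨e, he, h2⟩ := refl_cong' hQ h5 hu hv hc (by rw [h1, hu'])
      exact ⟨e, he, Or.inl (by rw [h2, hr])⟩
    · obtain ⟨e, he, h2⟩ := refl_cong' hQ h5 hw hv hc (by rw [h1, hw'])
      exact ⟨e, he, Or.inr (by rw [h2, hs])⟩
  -- `r` and `s` commute modulo `E Q`
  have hcomm : ∃ e ∈ E Q, r * s = e * (s * r) := by
    have h1 : Q (r w) ≠ 0 := by rw [mem_O.1 hrO]; exact hw
    obtain ⟨e, he, h2⟩ := refl_cong hQ h5 hw h1 (by rw [mem_O.1 hrO])
    have h3 := refl_conj hrO hw h1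
    refine ⟨e, he, ?_⟩
    rw [h2, ← hs] at h3
    calc r * s = r * s * r⁻¹ * r := by group
      _ = e * s * r := by rw [h3]
      _ = e * (s * r) := by group
  obtain ⟨k, hk, hkrs⟩ := hcomm
  have hconj : ∀ g ∈ O Q, ∀ e ∈ E Q, g * e * g⁻¹ ∈ E Q := fun g hg e he => conj_mem_E hg he
  -- the normal form
  let P : (V ≃ₗ[F] V) → Prop := fun g => ∃ e ∈ E Q, g = e ∨ g = e * r ∨ g = e * s ∨ g = e * (s * r)
  have hPE : ∀ e ∈ E Q, ∀ g, P g → P (e * g) := by
    rintro e he g ⟨e', he', h | h | h | h⟩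
    · exact ⟨e * e', mul_mem he he', Or.inl (by rw [h])⟩
    · exact ⟨e * e', mul_mem he he', Or.inr (Or.inl (by rw [h, mul_assoc]))⟩
    · exact ⟨e * e', mul_mem he he', Or.inr (Or.inr (Or.inl (by rw [h, mul_assoc])))⟩
    · exact ⟨e * e', mul_mem he he', Or.inr (Or.inr (Or.inr (by rw [h, mul_assoc])))⟩
  have hPr : ∀ g, P g → P (r * g) := by
    rintro g ⟨e, he, h | h | h | h⟩
    · refine ⟨r * e * r⁻¹, hconj r hrO e he, Or.inr (Or.inl ?_)⟩
      rw [h]; group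
    · refine ⟨r * e * r⁻¹, hconj r hrO e he, Or.inl ?_⟩
      have h1 : r * (e * r) = r * e * r⁻¹ * (r * r) := by group
      rw [h, h1, hrr, mul_one]
    · refine ⟨r * e * r⁻¹ * k, mul_mem (hconj r hrO e he) hk, Or.inr (Or.inr (Or.inr ?_))⟩
      have h1 : r * (e * s) = r * e * r⁻¹ * (r * s) := by group
      rw [h, h1, hkrs]
      group
    · refine ⟨r * e * r⁻¹ * k, mul_mem (hconj r hrO e he) hk, Or.inr (Or.inr (Or.inl ?_))⟩
      have h1 : r * (e * (s * r)) = r * e * r⁻¹ * (r * s) * r := by group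
      rw [h, h1, hkrs]
      have h2 : r * e * r⁻¹ * (k * (s * r)) * r = r * e * r⁻¹ * k * s * (r * r) := by group
      rw [h2, hrr, mul_one]
  have hPs : ∀ g, P g → P (s * g) := by
    rintro g ⟨e, he, h | h | h | h⟩
    · refine ⟨s * e * s⁻¹, hconj s hsO e he, Or.inr (Or.inr (Or.inl ?_))⟩
      rw [h]; group
    · refine ⟨s * e * s⁻¹, hconj s hsO e he, Or.inr (Or.inr (Or.inr ?_))⟩
      rw [h]; group
    · refine ⟨s * e * s⁻¹, hconj s hsO e he, Or.inl ?_⟩
      have h1 : s * (e * s) = s * e * s⁻¹ * (s * s) := by group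
      rw [h, h1, hss, mul_one]
    · refine ⟨s * e * s⁻¹, hconj s hsO e he, Or.inr (Or.inl ?_)⟩
      have h1 : s * (e * (s * r)) = s * e * s⁻¹ * (s * s) * r := by group
      rw [h, h1, hss, mul_one]
  have hP1 : P 1 := ⟨1, one_mem _, Or.inl rfl⟩
  have hgen : ∀ x ∈ reflSet Q ∪ siegelSet Q, ∀ g, P g → P (x * g) := by
    rintro x (⟨v, hv, rfl⟩ | hx) g hg
    · obtain ⟨e, he, h1 | h1⟩ := hrefl v hv
      · rw [h1, mul_assoc]
        exact hPE e he _ (hPr g hg)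
      · rw [h1, mul_assoc]
        exact hPE e he _ (hPs g hg)
    · exact hPE x (Subgroup.subset_closure hx) g hg
  have hinv : ∀ x ∈ reflSet Q ∪ siegelSet Q, ∀ g, P g → P (x⁻¹ * g) := by
    rintro x (⟨v, hv, rfl⟩ | hx) g hg
    · rw [refl_inv]
      exact hgen _ (Or.inl ⟨v, hv, rfl⟩) g hg
    · exact hPE _ (inv_mem (Subgroup.subset_closure hx)) g hg
  have hall : ∀ g ∈ O Q, P g := by
    intro g hg
    rw [O_eq_closure hQ] at hg
    induction hg using Subgroup.closure_induction_left with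
    | one => exact hP1
    | mul_left x hx y _ ih => exact hgen x hx y ih
    | inv_mul_cancel x hx y _ ih => exact hinv x hx y ih
  -- counting
  let f : Fin 4 × E Q → (V ≃ₗ[F] V) := fun p => (p.2 : V ≃ₗ[F] V) * (![1, r, s, s * r] p.1)
  have hsurj : ∀ g : O Q, ∃ p, f p = g := by
    rintro ⟨g, hg⟩
    obtain ⟨e, he, h | h | h | h⟩ := hall g hg
    · exact ⟨(0, ⟨e, he⟩), by change e * 1 = g; rw [mul_one, h]⟩
    · exact ⟨(1, ⟨e, he⟩), h.symm⟩
    · exact ⟨(2, ⟨e, he⟩), h.symm⟩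
    · exact ⟨(3, ⟨e, he⟩), h.symm⟩
  choose φ hφ using hsurj
  have hinj : Function.Injective φ := by
    intro a b hab
    apply Subtype.ext
    rw [← hφ a, ← hφ b, hab]
  have h1 := Nat.card_le_card_of_injective φ hinj
  rwa [Nat.card_prod, Nat.card_fin] at h1

/-- **Yc4** -/
theorem yc4 : H50.Ux.Yc4 := fun _ _ _ _ _ _ _ _ hQ hd => card_O_le (fun x hx => hQ x hx) (by omega)

end Cfsg.Agent.H450.Ux
end
end
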